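import Cfsg.Agent.J4.Gen

/-! Data for the identification of the module. -/

set_option autoImplicit false
set_option maxRecDepth 1000000
set_option maxHeartbeats 0

namespace CF.RF
open CF.Comp CF.Dce

noncomputable def wP : List (List ℕ) := [[(nat_lit 1)],
  [(nat_lit 2), (nat_lit 5), (nat_lit 2), (nat_lit 5), (nat_lit 1), (nat_lit 6), (nat_lit 1), (nat_lit 1), (nat_lit 6), (nat_lit 1), (nat_lit 6), (nat_lit 1), (nat_lit 5)],
  [(nat_lit 2), (nat_lit 5), (nat_lit 2), (nat_lit 5), (nat_lit 1), (nat_lit 6), (nat_lit 1), (nat_lit 1), (nat_lit 6), (nat_lit 1), (nat_lit 6), (nat_lit 1), (nat_lit 4), (nat_lit 5), (nat_lit 5)]]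
noncomputable def nP_0 : Net := (Net.cons (nat_lit 1) (nat_lit 4194304) (Net.cons (nat_lit 8) (nat_lit 128) (Net.cons (nat_lit 16) (nat_lit 128) (Net.cons (nat_lit 4) (nat_lit 526344) (Net.cons (nat_lit 2) (nat_lit 2236962) (Net.cons (nat_lit 1) (nat_lit 5592405) Net.nil))))))
noncomputable def nP_1 : Net := (Net.cons (nat_lit 1) (nat_lit 5591040) (Net.cons (nat_lit 2) (nat_lit 3354624) (Net.cons (nat_lit 8) (nat_lit 15) (Net.cons (nat_lit 16) (nat_lit 15) (Net.cons (nat_lit 8) (nat_lit 255) (Net.cons (nat_lit 4) (nat_lit 787212) (Net.cons (nat_lit 2) (nat_lit 1184274) (Net.cons (nat_lit 1) (nat_lit 4473924) Net.nil))))))))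
noncomputable def nP_2 : Net := (Net.cons (nat_lit 1) (nat_lit 82192) (Net.cons (nat_lit 2) (nat_lit 1249792) (Net.cons (nat_lit 4) (nat_lit 132352) (Net.cons (nat_lit 8) (nat_lit 28) (Net.cons (nat_lit 16) (nat_lit 253) (Net.cons (nat_lit 8) (nat_lit 89) (Net.cons (nat_lit 4) (nat_lit 593423) (Net.cons (nat_lit 2) (nat_lit 3212050) (Net.cons (nat_lit 1) (nat_lit 5592325) Net.nil)))))))))
noncomputable def nP : List Net := [nP_0, nP_1, nP_2]
noncomputable def wsc : List (List ℕ) := [[(nat_lit 5), (nat_lit 5), (nat_lit 5), (nat_lit 4), (nat_lit 5), (nat_lit 5)],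
  [(nat_lit 6), (nat_lit 6), (nat_lit 4), (nat_lit 6), (nat_lit 6)]]
noncomputable def idC : List ℕ := [(nat_lit 1594), (nat_lit 0x10018ea00f68401ed0803da10366020), (nat_lit 0x100171f66bdbf696623aa0027e04600), (nat_lit 0x100020004d98008d9fb41000418ea00), (nat_lit 0x100000bff01080371004f1240020571), (nat_lit 0x6495e646ecce455b6703a2c4630796), (nat_lit 0x684ba11f0884f04f966c3b3521e909)]
noncomputable def LBC : List ℕ := [(nat_lit 0x1001001001001001001001001001001), (nat_lit 0x37b08c09daded87f0560078a81ae2e), (nat_lit 0xc2e960dad6f0ea1048b54e014520ac), (nat_lit 0x187de0cb5bae359e81beabdbe8a755b), (nat_lit 0x1056e9aeac1143b85c1f17f8d8b7e3f), (nat_lit 0x1630046c4fce29c8d88311391047c4), (nat_lit 0x610c10c63df29889d0435f65281fa)]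
noncomputable def idG : List ℕ := [(nat_lit 1393), (nat_lit 0x1003e4a00d2a4031d880cd81019b020), (nat_lit 0x1002b3eeb741b88287fd4ea9b4a8812), (nat_lit 0x10002000466c00ade695100043e4a00), (nat_lit 0x100000fff0108031d0049d24002051d), (nat_lit 0x41b4797b5f71aec67552cd7a5c260), (nat_lit 0x10b3f27c749411fd1400b8cb79bc2e3)]
noncomputable def LBG : List ℕ := [(nat_lit 0x1001001001001001001001001001001), (nat_lit 0xbedc1c1a6e223041b680022642e810), (nat_lit 0x49308c3112837d3b0011321345e008), (nat_lit 0xf8c2f1a93fbcf55d8100020218ab8c), (nat_lit 0x197edf70a03ecfb0c810008ab9c2008), (nat_lit 0x1d028e22642f898fb8105e8b08f23dc), (nat_lit 0x5008e106e0f569738107d06f9a2b77)]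

end CF.RF
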